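import Mathlib
import Groth.Prelude.Def_W4c5spincurvestfNode

/-!
# The monomial basis of `R[x, y]/(x y - c)`
-/

set_option autoImplicit false
set_option backward.isDefEq.respectTransparency false

universe u

open MvPolynomial SpinCurv

noncomputable section

namespace Groth.Agent.SpinLib

variable {R : Type u} [CommRing R] (c : R)

/-- The monomial of index `j`. -/
def e (j : ℤ) : PolyNodeRing R c :=
  if 0 ≤ j then PolyNodeRing.x R c ^ j.toNat else PolyNodeRing.y R c ^ (-j).toNat

def coordPoly : MvPolynomial (Fin 2) R →ₗ[R] (ℤ →₀ R) :=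
  (MvPolynomial.basisMonomials (Fin 2) R).constr R
    fun d => Finsupp.single ((d 0 : ℤ) - d 1) (c ^ min (d 0) (d 1))

theorem coordPoly_monomial (d : Fin 2 →₀ ℕ) (r : R) :
    coordPoly c (monomial d r) = r • Finsupp.single ((d 0 : ℤ) - d 1) (c ^ min (d 0) (d 1)) := by
  rw [show monomial d r = r • (monomial d 1 : MvPolynomial (Fin 2) R) by rw [smul_monomial, smul_eq_mul, mul_one], map_smul,
    coordPoly, show (monomial d 1 : MvPolynomial (Fin 2) R) = basisMonomials (Fin 2) R d by simp,
    Module.Basis.constr_basis]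

theorem coordPoly_eq_zero : Submodule.restrictScalars R
    (Ideal.span {(X 0 * X 1 - C c : MvPolynomial (Fin 2) R)}) ≤ LinearMap.ker (coordPoly c) := by
  intro f hf
  obtain ⟨a, rfl⟩ := Ideal.mem_span_singleton'.1 hf
  rw [LinearMap.mem_ker]
  clear hf
  induction a using MvPolynomial.induction_on' with
  | add p q hp hq => rw [add_mul, map_add, hp, hq, add_zero]
  | monomial d r =>
    rw [mul_sub, X, X, monomial_mul, monomial_mul, C_apply, monomial_mul, map_sub, coordPoly_monomial, coordPoly_monomial]
    simp only [Finsupp.coe_add, Pi.add_apply, Finsupp.single_eq_same, Finsupp.single_eq_of_ne (show (0 : Fin 2) ≠ 1 by decide),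
      Finsupp.single_eq_of_ne (show (1 : Fin 2) ≠ 0 by decide), add_zero, zero_add, mul_one]
    rw [Nat.add_min_add_right, pow_succ, Finsupp.smul_single', Finsupp.smul_single']
    push_cast
    rw [show ((d 0 : ℤ) + 1 - (d 1 + 1)) = (d 0 : ℤ) - d 1 by ring, sub_eq_zero]
    congr 1
    ring

/-- The coordinates. -/
def coord : PolyNodeRing R c →ₗ[R] (ℤ →₀ R) :=
  (Submodule.liftQ _ (coordPoly c) (coordPoly_eq_zero c)) ∘ₗ
    (Submodule.Quotient.restrictScalarsEquiv R _).symm.toLinearMap

theorem coord_mk (f : MvPolynomial (Fin 2) R) :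
    coord c (Ideal.Quotient.mk _ f) = coordPoly c f := rfl

theorem xy_eq : PolyNodeRing.x R c * PolyNodeRing.y R c = algebraMap R _ c := by
  show Ideal.Quotient.mk _ (X 0) * Ideal.Quotient.mk _ (X 1) = Ideal.Quotient.mk _ (C c)
  rw [← map_mul, Ideal.Quotient.eq]
  exact Ideal.mem_span_singleton_self _

theorem pow_mul_pow_eq (a b : ℕ) :
    PolyNodeRing.x R c ^ a * PolyNodeRing.y R c ^ b = c ^ min a b • e c ((a : ℤ) - b) := by
  refine Eq.trans ?_ (Algebra.smul_def (c ^ min a b) (e c ((a : ℤ) - b))).symm
  rw [map_pow, ← xy_eq, mul_pow, e]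
  rcases le_total b a with h | h
  · rw [if_pos (by omega), min_eq_right h, show ((a : ℤ) - b).toNat = a - b by omega]
    conv_lhs => rw [← Nat.sub_add_cancel h, pow_add]
    ring
  · rw [min_eq_left h]
    split_ifs with h'
    · obtain rfl : a = b := by omega
      simp
    · rw [show (-((a : ℤ) - b)).toNat = b - a by omega]
      conv_lhs => rw [← Nat.sub_add_cancel h, pow_add]
      ring

/-- The monomial basis. -/
def basis : Module.Basis ℤ R (PolyNodeRing R c) :=
  .ofRepr (LinearEquiv.ofLinear (coord c) (Finsupp.linearCombination R (e c)) (LinearMap.ext fun l => by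
    refine LinearMap.congr_fun (Finsupp.lhom_ext fun j r => ?_ : coord c ∘ₗ Finsupp.linearCombination R (e c) = LinearMap.id) l
    rw [LinearMap.comp_apply, Finsupp.linearCombination_single, map_smul, LinearMap.id_apply, e]
    have hmon : ∀ (i : Fin 2) (m : ℕ), coord c (Ideal.Quotient.mk _ (X i : MvPolynomial (Fin 2) R) ^ m) =
        (1 : R) • Finsupp.single (((Finsupp.single i m) 0 : ℤ) - (Finsupp.single i m) 1)
          (c ^ min ((Finsupp.single i m) 0) ((Finsupp.single i m) 1)) := fun i m => by
      rw [← map_pow, coord_mk, X_pow_eq_monomial, coordPoly_monomial]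
    split_ifs with h
    · rw [PolyNodeRing.x, hmon]
      simp [Int.toNat_of_nonneg h]
    · rw [PolyNodeRing.y, hmon]
      simp [Int.toNat_of_nonneg (show 0 ≤ -j by omega)]) (LinearMap.ext fun z => by
    rw [LinearMap.comp_apply, LinearMap.id_apply]
    obtain ⟨f, rfl⟩ := Ideal.Quotient.mk_surjective z
    rw [coord_mk]
    induction f using MvPolynomial.induction_on' with
    | add p q hp hq => rw [map_add, map_add, hp, hq, map_add]
    | monomial d r =>
      rw [coordPoly_monomial, map_smul, Finsupp.linearCombination_single, ← pow_mul_pow_eq]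
      refine (Algebra.smul_def r (PolyNodeRing.x R c ^ d 0 * PolyNodeRing.y R c ^ d 1)).trans ?_
      rw [monomial_eq, Finsupp.prod_fintype _ _ (fun i => pow_zero _), Fin.prod_univ_two, map_mul,
        map_mul, map_pow, map_pow]
      rfl))

theorem basis_apply (j : ℤ) : basis c j = e c j := by
  show (basis c).repr.symm (Finsupp.single j 1) = e c j
  show Finsupp.linearCombination R (e c) (Finsupp.single j 1) = e c j
  rw [Finsupp.linearCombination_single, one_smul]

/-- The scalar of the monomial `j` in a chart. -/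
def scal (a : R) (j : ℤ) : R := a ^ (-j).toNat

theorem map_basis {φ : PolyNodeRing R c →ₐ[R] LaurentPolynomial R} {ε : ℤ}
    (hx : φ (PolyNodeRing.x R c) = LaurentPolynomial.T ε)
    (hy : φ (PolyNodeRing.y R c) = LaurentPolynomial.C c * LaurentPolynomial.T (-ε)) (j : ℤ) :
    φ (basis c j) = scal c j • LaurentPolynomial.T (ε * j) := by
  rw [basis_apply, e, scal]
  split_ifs with h
  · rw [map_pow, hx, LaurentPolynomial.T_pow, show (-j).toNat = 0 by omega, pow_zero, one_smul, Int.toNat_of_nonneg h,
      mul_comm]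
  · rw [map_pow, hy, mul_pow, ← map_pow, LaurentPolynomial.T_pow, Int.toNat_of_nonneg (show 0 ≤ -j by omega),
      LaurentPolynomial.smul_eq_C_mul, show -j * -ε = ε * j by ring]

theorem repr_map {φ : PolyNodeRing R c →ₐ[R] LaurentPolynomial R} {ε : ℤ} (hε : ε = 1 ∨ ε = -1)
    (hx : φ (PolyNodeRing.x R c) = LaurentPolynomial.T ε)
    (hy : φ (PolyNodeRing.y R c) = LaurentPolynomial.C c * LaurentPolynomial.T (-ε)) (g : PolyNodeRing R c) (m : ℤ) :
    (φ g).coeff m = scal c (ε * m) * (basis c).repr g (ε * m) := by
  have hεε : ε * ε = 1 := by rcases hε with rfl | rfl <;> norm_num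
  conv_lhs => rw [← (basis c).linearCombination_repr g]
  induction (basis c).repr g using Finsupp.induction_linear with
  | zero => simp
  | add a b ha hb =>
    simp only [map_add, AddMonoidAlgebra.coeff_add, Finsupp.coe_add, Pi.add_apply, ha, hb, mul_add]
  | single j r =>
    rw [Finsupp.linearCombination_single, map_smul, map_basis c hx hy, smul_smul, AddMonoidAlgebra.coeff_smul,
      Finsupp.smul_apply, LaurentPolynomial.T, AddMonoidAlgebra.coeff_single]
    rcases eq_or_ne (ε * j) m with h | h
    · have : ε * m = j := by rw [← h, ← mul_assoc, hεε, one_mul]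
      rw [h, this, Finsupp.single_eq_same, Finsupp.single_eq_same, smul_eq_mul, mul_one, mul_comm]
    · have : j ≠ ε * m := fun h' => h (by rw [h', ← mul_assoc, hεε, one_mul])
      rw [Finsupp.single_eq_of_ne (Ne.symm h), Finsupp.single_eq_of_ne this.symm]
      simp

end Groth.Agent.SpinLib
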