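import Groth.Agent.SpinLib.Poly

/-!
# Generators of the twisting modules at a node
-/

set_option autoImplicit false
set_option maxHeartbeats 1600000

universe u

noncomputable section

namespace Groth.Agent.SpinLib

variable {R : Type u} [CommRing R] {A : Type u} [CommRing A] [Algebra R A] (X Y : A) (p q : R) (n : ℕ)

/-- The relations between the generators. -/
def relMod : Submodule A (Fin (n + 1) → A) :=
  Submodule.span A
    (Set.range (fun i : Fin n => (Pi.single (Fin.castSucc i) (algebraMap R A p) - Pi.single (Fin.succ i) X : Fin (n + 1) → A)) ∪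
     Set.range (fun i : Fin n => (Pi.single (Fin.castSucc i) Y - Pi.single (Fin.succ i) (algebraMap R A q) : Fin (n + 1) → A)))

/-- The representatives of the monomials. -/
def sig (m : ℤ) : Fin (n + 1) → A :=
  if (n : ℤ) < m then Pi.single 0 (X ^ (m - n).toNat)
  else if 0 ≤ m then Pi.single ⟨n - m.toNat, by omega⟩ 1
  else Pi.single (Fin.last n) (Y ^ (-m).toNat)

theorem exists_comb_sig (hxy : X * Y = algebraMap R A (p * q))
    (hgens : ∀ P : A → Prop, (∀ r, P (algebraMap R A r)) → (∀ a b, P a → P b → P (a + b)) →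
      (∀ a, P a → P (a * X)) → (∀ a, P a → P (a * Y)) → ∀ a, P a) (F : Fin (n + 1) → A) :
    ∃ w : ℤ →₀ R, F - Finsupp.linearCombination R (sig X Y n) w ∈ relMod X Y p q n := by
  classical
  let σ := sig X Y n
  let N := relMod X Y p q n
  let S : Submodule R (Fin (n + 1) → A) := Submodule.span R (Set.range σ) ⊔ N.restrictScalars R
  have hσS : ∀ m, σ m ∈ S := fun m => Submodule.mem_sup_left (Submodule.subset_span ⟨m, rfl⟩)
  have hNS : ∀ F ∈ N, F ∈ S := fun F hF => Submodule.mem_sup_right hF
  have hsg : ∀ (i : Fin (n + 1)) (a b : A), a • (Pi.single i b : Fin (n + 1) → A) = Pi.single i (a * b) := fun i a b =>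
    (Pi.single_smul' i a b).symm
  have hrs : ∀ (i : Fin (n + 1)) (r : R) (b : A), (Pi.single i (algebraMap R A r * b) : Fin (n + 1) → A) = r • Pi.single i b :=
    fun i r b => by rw [← Algebra.smul_def, Pi.single_smul']
  have hx : ∀ m, X • σ m ∈ S := fun m => by
    simp only [σ, sig]
    by_cases h : (n : ℤ) < m
    · rw [if_pos h, hsg, ← pow_succ']
      convert hσS (m + 1) using 1
      simp only [σ, sig]
      rw [if_pos (by omega : (n : ℤ) < m + 1), show (m + 1 - n).toNat = (m - n).toNat + 1 by omega]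
    by_cases h0 : (0 : ℤ) ≤ m
    · rw [if_neg h, if_pos h0, hsg, mul_one]
      by_cases hi : m = n
      · subst hi
        convert hσS ((n : ℤ) + 1) using 1
        simp only [σ, sig]
        rw [if_pos (by omega : (n : ℤ) < n + 1), show ((n : ℤ) + 1 - n).toNat = 1 by omega, pow_one]
        congr 1
        exact Fin.ext (by simp)
      · have hk : n - m.toNat - 1 < n := by omega
        have h1 := hNS _ (Submodule.subset_span (R := A) (s := _ ∪ _) (Or.inl ⟨⟨n - m.toNat - 1, hk⟩, rfl⟩) :
          _ ∈ N)
        have h2 := S.smul_mem p (hσS (m + 1))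
        simp only [σ, sig] at h2
        rw [if_neg (by omega : ¬ (n : ℤ) < m + 1), if_pos (by omega : (0 : ℤ) ≤ m + 1), ← hrs, mul_one] at h2
        have h3 := S.sub_mem h2 h1
        beta_reduce at h3
        rw [show (Fin.castSucc ⟨n - m.toNat - 1, hk⟩ : Fin (n + 1)) = ⟨n - (m + 1).toNat, by omega⟩ from
          Fin.ext (by simp only [Fin.val_castSucc]; omega),
          show (Fin.succ ⟨n - m.toNat - 1, hk⟩ : Fin (n + 1)) = ⟨n - m.toNat, by omega⟩ from
          Fin.ext (by simp only [Fin.val_succ]; omega), sub_sub_cancel] at h3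
        exact h3
    · rw [if_neg h, if_neg h0, hsg, show (-m).toNat = (-(m + 1)).toNat + 1 by omega, pow_succ', ← mul_assoc, hxy, hrs]
      refine S.smul_mem _ ?_
      convert hσS (m + 1) using 1
      simp only [σ, sig]
      rw [if_neg (by omega : ¬ (n : ℤ) < m + 1)]
      by_cases h1 : (0 : ℤ) ≤ m + 1
      · rw [if_pos h1, show (-(m + 1)).toNat = 0 by omega, pow_zero]
        congr 1
        exact Fin.ext (by simp; omega)
      · rw [if_neg h1]
  have hy : ∀ m, Y • σ m ∈ S := fun m => by
    simp only [σ, sig]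
    by_cases h : (n : ℤ) < m
    · rw [if_pos h, hsg, show (m - n).toNat = (m - 1 - n).toNat + 1 by omega, pow_succ', ← mul_assoc, mul_comm (Y), hxy, hrs]
      refine S.smul_mem _ ?_
      convert hσS (m - 1) using 1
      simp only [σ, sig]
      by_cases h1 : (n : ℤ) < m - 1
      · rw [if_pos h1]
      · rw [if_neg h1, if_pos (by omega : (0 : ℤ) ≤ m - 1), show (m - 1 - n).toNat = 0 by omega, pow_zero]
        congr 1
        exact Fin.ext (by simp; omega)
    by_cases h0 : (0 : ℤ) ≤ m
    · rw [if_neg h, if_pos h0, hsg, mul_one]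
      by_cases hi : m = 0
      · subst hi
        convert hσS (-1) using 1
        simp only [σ, sig]
        rw [if_neg (by omega : ¬ (n : ℤ) < -1), if_neg (by omega : ¬ (0 : ℤ) ≤ -1)]
        simp
        rfl
      · have hk : n - m.toNat < n := by omega
        have h1 := hNS _ (Submodule.subset_span (R := A) (s := _ ∪ _) (Or.inr ⟨⟨n - m.toNat, hk⟩, rfl⟩) : _ ∈ N)
        have h2 := S.smul_mem q (hσS (m - 1))
        simp only [σ, sig] at h2
        rw [if_neg (by omega : ¬ (n : ℤ) < m - 1), if_pos (by omega : (0 : ℤ) ≤ m - 1), ← hrs, mul_one] at h2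
        have h3 := S.add_mem h1 h2
        beta_reduce at h3
        rw [show (Fin.succ ⟨n - m.toNat, hk⟩ : Fin (n + 1)) = ⟨n - (m - 1).toNat, by omega⟩ from
          Fin.ext (by simp only [Fin.val_succ]; omega), sub_add_cancel] at h3
        exact h3
    · rw [if_neg h, if_neg h0, hsg, ← pow_succ']
      convert hσS (m - 1) using 1
      simp only [σ, sig]
      rw [if_neg (by omega : ¬ (n : ℤ) < m - 1), if_neg (by omega : ¬ (0 : ℤ) ≤ m - 1),
        show (-(m - 1)).toNat = (-m).toNat + 1 by omega]
  have hstab : ∀ (a : A) F, F ∈ S → a • F ∈ S := by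
    have hgen : ∀ g : A, (∀ m, g • σ m ∈ S) → ∀ F, F ∈ S → g • F ∈ S := fun g hg F hF => by
      obtain ⟨y, hy, z, hz, rfl⟩ := Submodule.mem_sup.1 hF
      rw [smul_add]
      refine S.add_mem ?_ (hNS _ (N.smul_mem g hz))
      clear hF
      induction hy using Submodule.span_induction with
      | mem y hy => obtain ⟨m, rfl⟩ := hy; exact hg m
      | zero => rw [smul_zero]; exact zero_mem _
      | add a b _ _ ha hb => rw [smul_add]; exact add_mem ha hb
      | smul r a _ ha => rw [smul_comm]; exact S.smul_mem r ha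
    exact hgens _ (fun r F hF => by rw [algebraMap_smul]; exact S.smul_mem r hF)
      (fun a b ha hb F hF => by rw [add_smul]; exact S.add_mem (ha F hF) (hb F hF))
      (fun a ha F hF => by rw [mul_smul]; exact ha _ (hgen _ hx F hF))
      (fun a ha F hF => by rw [mul_smul]; exact ha _ (hgen _ hy F hF))
  have hone : ∀ i : Fin (n + 1), Pi.single i (1 : A) ∈ S := fun i => by
    convert hσS ((n : ℤ) - (i : ℕ)) using 1
    simp only [σ, sig]
    have := i.2
    rw [if_neg (by omega : ¬ (n : ℤ) < n - (i : ℕ)), if_pos (by omega : (0 : ℤ) ≤ n - (i : ℕ))]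
    congr 1
    exact Fin.ext (by simp; omega)
  have htop : ∀ F, F ∈ S := fun F => by
    rw [← Finset.univ_sum_single F]
    refine S.sum_mem fun i _ => ?_
    have h := hstab (F i) _ (hone i)
    rwa [hsg, mul_one] at h
  obtain ⟨y, hy, z, hz, rfl⟩ := Submodule.mem_sup.1 (htop F)
  obtain ⟨w, rfl⟩ := Finsupp.mem_span_range_iff_exists_finsupp.1 hy
  refine ⟨w, ?_⟩
  rw [Finsupp.linearCombination_apply, add_sub_cancel_left]
  exact hz

end Groth.Agent.SpinLib
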